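import Groth.Agent.L25.CentralLift.Etale
import Groth.Prelude.Def_AutFam
import Groth.Prelude.Def_Red

/-!
# Families of isomorphisms of groups and isomorphisms of base changes
-/

set_option autoImplicit false
set_option linter.style.haveILetI false
set_option linter.unusedSectionVars false
set_option backward.isDefEq.respectTransparency.types false

universe u

open CategoryTheory CategoryTheory.Limits MonoidalCategory CartesianMonoidalCategory MonObj AlgebraicGeometry
open Groth.L25

noncomputable section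

namespace Groth.L15.IsomRange

variable {S : Scheme.{u}} {G G' : Over S} [GrpObj G] [GrpObj G']

/-- A family of homomorphisms evaluated on a base change. -/
def evalFam {T : Over S} (φ : G ⊗ T ⟶ G') {P : Scheme.{u}} (j : P ⟶ S) (a : Over.mk j ⟶ T) :
    Red.bc j G ⟶ Red.bc j G' :=
  NilAction.ofBase j (lift (NilAction.toBase j (𝟙 (Red.bc j G)))
    ((Over.homMk (Red.bc j G).hom : Over.mk ((Red.bc j G).hom ≫ j) ⟶ Over.mk j) ≫ a) ≫ φ)

theorem toBase_comp_evalFam {T : Over S} (φ : G ⊗ T ⟶ G') {P : Scheme.{u}} (j : P ⟶ S) (a : Over.mk j ⟶ T)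
    {Y : Over P} (y : Y ⟶ Red.bc j G) :
    NilAction.toBase j (y ≫ evalFam φ j a) = lift (NilAction.toBase j y)
      ((Over.homMk Y.hom : Over.mk (Y.hom ≫ j) ⟶ Over.mk j) ≫ a) ≫ φ := by
  rw [evalFam, CentralLift.toBase_comp, NilAction.toBase_ofBase, ← Category.assoc, comp_lift]
  congr 2
  rw [← Category.assoc]
  congr 1
  exact Over.OverMorphism.ext (Over.w y)

/-- A family of isomorphisms gives isomorphisms of base changes. -/
theorem nonempty_iso_of_isIsoFamily {T : Over S} (φ : G ⊗ T ⟶ G') (hφ : AutFam.IsIsoFamily G G' φ)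
    {P : Scheme.{u}} (j : P ⟶ S) (a : Over.mk j ⟶ T) :
    Nonempty (Grp.mk (Red.bc j G) ≅ Grp.mk (Red.bc j G')) := by
  obtain ⟨hm, ψ, hψ₁, hψ₂⟩ := hφ
  have hmul : ∀ {Y : Over P} (y z : Y ⟶ Red.bc j G),
      (y * z) ≫ evalFam φ j a = (y ≫ evalFam φ j a) * (z ≫ evalFam φ j a) := fun y z => by
    refine CentralLift.toBase_injective j ?_
    simp only [NilAction.toBase_mul, toBase_comp_evalFam]
    exact hm _ _ _ _
  have hone : (1 : 𝟙_ (Over P) ⟶ Red.bc j G) ≫ evalFam φ j a = 1 := by
    have h := hmul (1 : 𝟙_ (Over P) ⟶ Red.bc j G) 1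
    rw [_root_.one_mul] at h
    exact mul_eq_left.mp h.symm
  haveI : IsMonHom (evalFam φ j a) := by
    refine ⟨?_, ?_⟩
    · rw [one_eq_one, one_eq_one]
      exact hone
    · rw [mul_eq_mul, hmul, ← CartesianMonoidalCategory.lift_fst_comp_snd_comp, ← Hom.mul_def]
  let e : Red.bc j G ≅ Red.bc j G' :=
    { hom := evalFam φ j a
      inv := evalFam ψ j a
      hom_inv_id := by
        refine CentralLift.toBase_injective j ?_
        rw [toBase_comp_evalFam]
        conv_lhs => rw [← Category.id_comp (evalFam φ j a), toBase_comp_evalFam]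
        exact hψ₁ _ _ _
      inv_hom_id := by
        refine CentralLift.toBase_injective j ?_
        rw [toBase_comp_evalFam]
        conv_lhs => rw [← Category.id_comp (evalFam ψ j a), toBase_comp_evalFam]
        exact hψ₂ _ _ _ }
  exact ⟨Grp.mkIso' e⟩

/-- The point over the base attached to points of two factors. -/
def pairPt {P : Scheme.{u}} (j : P ⟶ S) {X : Over S} (g : X ⟶ G) (t : X ⟶ Over.mk j) :
    (Over.mk t.left : Over P) ⟶ Red.bc j G :=
  NilAction.ofBase j (Over.homMk g.left ((Over.w g).trans (Over.w t).symm))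

/-- The identification of a point with the corresponding point over the base change. -/
def self {P : Scheme.{u}} (j : P ⟶ S) {X : Over S} (t : X ⟶ Over.mk j) :
    X ⟶ Over.mk ((Over.mk t.left : Over P).hom ≫ j) :=
  Over.homMk (𝟙 X.left) ((Category.id_comp _).trans (Over.w t))

theorem self_toBase_pairPt {P : Scheme.{u}} (j : P ⟶ S) {X : Over S} (g : X ⟶ G) (t : X ⟶ Over.mk j) :
    self j t ≫ NilAction.toBase j (pairPt j g t) = g := by
  rw [pairPt, NilAction.toBase_ofBase]
  exact Over.OverMorphism.ext (Category.id_comp _)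

/-- A homomorphism of base changes as a family. -/
def famOf {P : Scheme.{u}} (j : P ⟶ S) (f : Red.bc j G ⟶ Red.bc j G') : G ⊗ Over.mk j ⟶ G' :=
  self j (snd G (Over.mk j)) ≫ NilAction.toBase j (pairPt j (fst G (Over.mk j)) (snd G (Over.mk j)) ≫ f)

theorem lift_famOf {P : Scheme.{u}} (j : P ⟶ S) (f : Red.bc j G ⟶ Red.bc j G') {X : Over S} (g : X ⟶ G)
    (t : X ⟶ Over.mk j) : lift g t ≫ famOf j f = self j t ≫ NilAction.toBase j (pairPt j g t ≫ f) := by
  have ht : (lift g t).left ≫ (snd G (Over.mk j)).left = t.left := congrArg CommaMorphism.left (lift_snd g t)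
  have hg : (lift g t).left ≫ (fst G (Over.mk j)).left = g.left := congrArg CommaMorphism.left (lift_fst g t)
  let l : (Over.mk t.left : Over P) ⟶ Over.mk (snd G (Over.mk j)).left := Over.homMk (lift g t).left ht
  have h1 : pairPt j g t = l ≫ pairPt j (fst G (Over.mk j)) (snd G (Over.mk j)) := by
    refine CentralLift.toBase_injective j ?_
    rw [CentralLift.toBase_comp, pairPt, pairPt, NilAction.toBase_ofBase, NilAction.toBase_ofBase]
    exact Over.OverMorphism.ext hg.symm
  rw [h1, Category.assoc, CentralLift.toBase_comp, famOf, ← Category.assoc, ← Category.assoc (self j t)]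
  congr 1

theorem pairPt_mul {P : Scheme.{u}} (j : P ⟶ S) {X : Over S} (g g' : X ⟶ G) (t : X ⟶ Over.mk j) :
    pairPt j (g * g') t = pairPt j g t * pairPt j g' t := by
  refine CentralLift.toBase_injective j ?_
  let d : Over.mk ((Over.mk t.left : Over P).hom ≫ j) ⟶ X := Over.homMk (𝟙 X.left) (by
    exact (Category.id_comp _).trans (Over.w t).symm)
  have e : ∀ h : X ⟶ G, NilAction.toBase j (pairPt j h t) = d ≫ h := fun h => by
    rw [pairPt, NilAction.toBase_ofBase]
    exact Over.OverMorphism.ext (Category.id_comp _).symm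
  rw [NilAction.toBase_mul, e, e, e, comp_mul]

theorem isHomFamily_famOf {P : Scheme.{u}} (j : P ⟶ S) (f : Red.bc j G ⟶ Red.bc j G') [IsMonHom f] :
    AutFam.IsHomFamily G G' (famOf j f) := fun X g₁ g₂ t => by
  rw [lift_famOf, lift_famOf, lift_famOf, pairPt_mul, MonObj.mul_comp, NilAction.toBase_mul, comp_mul]

theorem pairPt_self_toBase {P : Scheme.{u}} (j : P ⟶ S) {X : Over S} (t : X ⟶ Over.mk j)
    (y : (Over.mk t.left : Over P) ⟶ Red.bc j G) : pairPt j (self j t ≫ NilAction.toBase j y) t = y := by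
  refine CentralLift.toBase_injective j ?_
  rw [pairPt, NilAction.toBase_ofBase]
  exact Over.OverMorphism.ext (Category.id_comp _)

/-- An isomorphism of base changes gives a family of isomorphisms. -/
theorem exists_isIsoFamily {P : Scheme.{u}} (j : P ⟶ S) (e : Grp.mk (Red.bc j G) ≅ Grp.mk (Red.bc j G')) :
    ∃ φ : G ⊗ Over.mk j ⟶ G', AutFam.IsIsoFamily G G' φ := by
  haveI : IsMonHom e.hom.hom.hom := e.hom.hom.isMonHom_hom
  have h₁ : e.hom.hom.hom ≫ e.inv.hom.hom = 𝟙 _ := congrArg (fun f => f.hom.hom) e.hom_inv_id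
  have h₂ : e.inv.hom.hom ≫ e.hom.hom.hom = 𝟙 _ := congrArg (fun f => f.hom.hom) e.inv_hom_id
  refine ⟨famOf j e.hom.hom.hom, isHomFamily_famOf j _, famOf j e.inv.hom.hom, fun X g t => ?_, fun X g t => ?_⟩
  · rw [lift_famOf, lift_famOf, pairPt_self_toBase, Category.assoc, h₁, Category.comp_id, self_toBase_pairPt]
  · rw [lift_famOf, lift_famOf, pairPt_self_toBase, Category.assoc, h₂, Category.comp_id, self_toBase_pairPt]

end Groth.L15.IsomRange
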