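import Groth.Agent.L15.IsomRange.Families
import Groth.Agent.L14.Splitting.Compare
import Groth.Agent.L14.Splitting.Etale

/-!
# The image of the scheme of isomorphisms of reductive groups is closed
-/

set_option autoImplicit false
set_option linter.style.haveILetI false
set_option linter.unusedSectionVars false
set_option backward.isDefEq.respectTransparency.types false

universe u

open CategoryTheory CategoryTheory.Limits MonoidalCategory CartesianMonoidalCategory MonObj AlgebraicGeometry
open Groth.L14.Splitting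

noncomputable section

namespace Groth.L15.IsomRange

theorem isClosed_range {S : Scheme.{u}} (G G' : Over S) [GrpObj G] [GrpObj G'] (hG : Red.IsReductive G)
    (hG' : Red.IsReductive G') (F : Over S) (υ : G ⊗ F ⟶ G') (hF : AutFam.RepresentsIsom G G' F υ) :
    IsClosed (Set.range F.hom.base) := by
  rw [← isOpen_compl_iff, isOpen_iff_forall_mem_open]
  intro s hs
  -- a common etale neighbourhood with splittings
  obtain ⟨V, f, hf, ⟨v, hv⟩, -, T, _, i, r, hi, ⟨R⟩⟩ := exists_rootData_etale' hG s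
  obtain ⟨V', f', hf', ⟨v', hv'⟩, -, T', _, i', r', hi', ⟨R'⟩⟩ := exists_rootData_etale' hG' s
  haveI := hf
  haveI := hf'
  let d : pullback f f' ⟶ S := pullback.fst f f' ≫ f
  obtain ⟨T₁, _, i₁, h₁, ⟨R₁⟩⟩ := exists_rootData_comp f (pullback.fst f f') (d := d) rfl hG R hi
  obtain ⟨T₂, _, i₂, h₂, ⟨R₂⟩⟩ := exists_rootData_comp f' (pullback.snd f f') (d := d)
    pullback.condition.symm hG' R' hi'
  haveI : Etale d := inferInstance
  refine ⟨Set.range d, ?_, d.isOpenMap.isOpen_range, ?_⟩
  · rintro _ ⟨w, rfl⟩ ⟨z, hz⟩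
    obtain ⟨p, -, hp⟩ := Scheme.Pullback.exists_preimage_pullback (f := F.hom) (g := d) z w hz
    let Ω := AlgebraicClosure ((pullback F.hom d).residueField p)
    let x : Spec (CommRingCat.of Ω) ⟶ pullback F.hom d := Red.geomPt p
    let θ : Spec (CommRingCat.of Ω) ⟶ pullback f f' := x ≫ pullback.snd F.hom d
    obtain ⟨e₀⟩ := nonempty_iso_of_isIsoFamily υ hF.1 (θ ≫ d)
      (Over.homMk (x ≫ pullback.fst F.hom d) (by
        show (x ≫ pullback.fst F.hom d) ≫ F.hom = θ ≫ d
        rw [Category.assoc, pullback.condition, ← Category.assoc]))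
    obtain ⟨e⟩ := iso_of_iso_at R₁ (isReductive_bc hG d) h₁ R₂ (isReductive_bc hG' d) h₂ θ
      (flatIso θ d rfl G ≪≫ e₀ ≪≫ (flatIso θ d rfl G').symm)
    obtain ⟨φ, hφ⟩ := exists_isIsoFamily d e
    obtain ⟨a, -, -⟩ := hF.2 (Over.mk d) φ hφ
    obtain ⟨q', hq', -⟩ := Scheme.Pullback.exists_preimage_pullback (f := f) (g := f') v v' (hv.trans hv'.symm)
    refine hs ⟨a.left q', ?_⟩
    calc F.hom (a.left q') = (a.left ≫ F.hom) q' := (Scheme.Hom.comp_apply _ _ _).symm
      _ = d q' := congrArg (fun φ : pullback f f' ⟶ S => φ q') (Over.w a)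
      _ = f (pullback.fst f f' q') := Scheme.Hom.comp_apply _ _ _
      _ = s := by rw [hq']; exact hv
  · obtain ⟨q, hq, -⟩ := Scheme.Pullback.exists_preimage_pullback (f := f) (g := f') v v' (hv.trans hv'.symm)
    exact ⟨q, by rw [Scheme.Hom.comp_apply, hq]; exact hv⟩

end Groth.L15.IsomRange
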